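import Groth.Agent.TwistFunctLib.Basic
import Groth.Agent.GrTildeLib.Twist
import Groth.Agent.GrModLib.Lift

/-!
# Stalks of twisting sheaves by fractions
-/

set_option autoImplicit false
set_option backward.isDefEq.respectTransparency false
set_option linter.style.haveILetI false

universe u

open CategoryTheory CategoryTheory.Limits AlgebraicGeometry TopologicalSpace Opposite
open HomogeneousLocalization
open Groth.Agent.PullbackMod Groth.Agent.ParaFLib Groth.Agent.ProjTwist Groth.Agent.ProjTwistLib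

noncomputable section

namespace Groth.Agent.TwistBCLib

variable {R A : Type u} [CommRing R] [CommRing A] [Algebra R A] {𝒜 : ℕ → Submodule R A} [GradedAlgebra 𝒜]
  {x : Proj 𝒜} {n : ℤ}

lemma mem_mul {u v : A} (hu : x ∈ Proj.basicOpen 𝒜 u) (hv : x ∈ Proj.basicOpen 𝒜 v) :
    x ∈ Proj.basicOpen 𝒜 (u * v) := fun h => (x.isPrime.mem_or_mem h).elim hu hv

lemma mem_pow {v : A} (hv : x ∈ Proj.basicOpen 𝒜 v) (e : ℕ) : x ∈ Proj.basicOpen 𝒜 (v ^ e) :=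
  fun h => hv (x.isPrime.mem_of_pow_mem e h)

lemma mem_one : x ∈ Proj.basicOpen 𝒜 (1 : A) := ProjCoh.one_notMem x

variable (n) in
/-- The germ of `a / s` in the stalk of `O(n)`. -/
def G {i j : ℕ} (a : 𝒜 i) (s : 𝒜 j) (h : (i : ℤ) = j + n) (hs : x ∈ Proj.basicOpen 𝒜 s.1) :
    (Twist.twist 𝒜 n).presheaf.stalk x :=
  (Twist.twist 𝒜 n).presheaf.germ (Proj.basicOpen 𝒜 s.1) x hs (frac 𝒜 a s n h le_rfl)

/-- The germ of a fraction of degree zero. -/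
def ρ {k : ℕ} (u v : 𝒜 k) (hv : x ∈ Proj.basicOpen 𝒜 v.1) : (Proj 𝒜).presheaf.stalk x :=
  (Proj 𝒜).presheaf.germ (Proj.basicOpen 𝒜 v.1) x hv (fracSec 𝒜 u v le_rfl)

theorem G_eq {i j i' j' : ℕ} {a : 𝒜 i} {s : 𝒜 j} {a' : 𝒜 i'} {s' : 𝒜 j'} {h : (i : ℤ) = j + n}
    {h' : (i' : ℤ) = j' + n} {hs : x ∈ Proj.basicOpen 𝒜 s.1} {hs' : x ∈ Proj.basicOpen 𝒜 s'.1}
    (e : a.1 * s'.1 = a'.1 * s.1) : G n a s h hs = G n a' s' h' hs' := by
  refine TopCat.Presheaf.germ_ext _ (Proj.basicOpen 𝒜 s.1 ⊓ Proj.basicOpen 𝒜 s'.1) ⟨hs, hs'⟩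
    (homOfLE inf_le_left) (homOfLE inf_le_right) ?_
  refine sect_ext fun y => ?_
  refine Localization.mk_eq_mk_iff.2 (Localization.r_iff_exists.2 ⟨1, ?_⟩)
  show _ * (s'.1 * a.1) = _ * (s.1 * a'.1)
  rw [mul_comm s'.1, mul_comm s.1, e]

theorem G_zero {i j : ℕ} {a : 𝒜 i} {s : 𝒜 j} {h : (i : ℤ) = j + n} {hs : x ∈ Proj.basicOpen 𝒜 s.1}
    (ha : a.1 = 0) : G n a s h hs = 0 := by
  unfold G
  refine Eq.trans (congrArg _ (sect_ext (g := 0) fun y => ?_)) (map_zero _)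
  show Localization.mk a.1 _ = 0
  rw [ha, Localization.mk_zero]

theorem G_add {i j : ℕ} {a b : 𝒜 i} {s : 𝒜 j} {h : (i : ℤ) = j + n} {hs : x ∈ Proj.basicOpen 𝒜 s.1} :
    G n (a + b) s h hs = G n a s h hs + G n b s h hs := by
  unfold G
  refine (congrArg _ ?_).trans (map_add _ _ _)
  refine sect_ext fun y => ?_
  show Localization.mk (a.1 + b.1) _ = Localization.mk a.1 _ + Localization.mk b.1 _
  exact (Localization.add_mk_self _ _ _).symm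

theorem ρ_smul {k i j : ℕ} {u v : 𝒜 k} {hv : x ∈ Proj.basicOpen 𝒜 v.1} {a : 𝒜 i} {s : 𝒜 j} {h : (i : ℤ) = j + n}
    {hs : x ∈ Proj.basicOpen 𝒜 s.1} :
    ρ u v hv • G n a s h hs = G n (⟨u.1 * a.1, SetLike.mul_mem_graded u.2 a.2⟩ : 𝒜 (k + i))
      (⟨v.1 * s.1, SetLike.mul_mem_graded v.2 s.2⟩ : 𝒜 (k + j)) (by push_cast; omega) (mem_mul hv hs) := by
  let W := Proj.basicOpen 𝒜 v.1 ⊓ Proj.basicOpen 𝒜 s.1
  have hle : W ≤ Proj.basicOpen 𝒜 (v.1 * s.1) := fun y hy => mem_mul hy.1 hy.2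
  unfold ρ G
  rw [← (Proj 𝒜).presheaf.germ_res_apply (homOfLE (inf_le_left : W ≤ _)) x ⟨hv, hs⟩,
    ← (Twist.twist 𝒜 n).presheaf.germ_res_apply (homOfLE (inf_le_right : W ≤ _)) x ⟨hv, hs⟩,
    ← (Twist.twist 𝒜 n).presheaf.germ_res_apply (homOfLE hle) x ⟨hv, hs⟩, ← germ_smul']
  refine congrArg _ (sect_ext fun y => ?_)
  refine (valAt_fracSec_smul u v (inf_le_left : W ≤ _) _ y).trans ?_
  exact Localization.mk_mul _ _ _ _

theorem ρ_eq {k k' : ℕ} {u v : 𝒜 k} {u' v' : 𝒜 k'} {hv : x ∈ Proj.basicOpen 𝒜 v.1}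
    {hv' : x ∈ Proj.basicOpen 𝒜 v'.1} (e : u.1 * v'.1 = u'.1 * v.1) : ρ u v hv = ρ u' v' hv' := by
  refine TopCat.Presheaf.germ_ext _ (Proj.basicOpen 𝒜 v.1 ⊓ Proj.basicOpen 𝒜 v'.1) ⟨hv, hv'⟩
    (homOfLE inf_le_left) (homOfLE inf_le_right) ?_
  refine Subtype.ext (funext fun y => HomogeneousLocalization.val_injective _ ?_)
  refine Eq.trans (val_mk _) (Eq.trans ?_ (val_mk _).symm)
  refine Localization.mk_eq_mk_iff.2 (Localization.r_iff_exists.2 ⟨1, ?_⟩)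
  show _ * (v'.1 * u.1) = _ * (v.1 * u'.1)
  rw [mul_comm v'.1, mul_comm v.1, e]

theorem ρ_one {k : ℕ} {v : 𝒜 k} {hv : x ∈ Proj.basicOpen 𝒜 v.1} : ρ v v hv = 1 := by
  unfold ρ
  refine (congrArg _ ?_).trans (map_one _)
  refine Subtype.ext (funext fun y => HomogeneousLocalization.val_injective _ ?_)
  refine (val_mk _).trans (Eq.trans ?_ val_one.symm)
  exact Localization.mk_self (⟨v.1, y.2⟩ : y.1.asHomogeneousIdeal.toIdeal.primeCompl)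

theorem ρ_mul {k l : ℕ} {u v : 𝒜 k} {u' v' : 𝒜 l} {hv : x ∈ Proj.basicOpen 𝒜 v.1}
    {hv' : x ∈ Proj.basicOpen 𝒜 v'.1} :
    ρ u v hv * ρ u' v' hv' = ρ (⟨u.1 * u'.1, SetLike.mul_mem_graded u.2 u'.2⟩ : 𝒜 (k + l))
      (⟨v.1 * v'.1, SetLike.mul_mem_graded v.2 v'.2⟩ : 𝒜 (k + l)) (mem_mul hv hv') := by
  let W := Proj.basicOpen 𝒜 v.1 ⊓ Proj.basicOpen 𝒜 v'.1
  have hle : W ≤ Proj.basicOpen 𝒜 (v.1 * v'.1) := fun y hy => mem_mul hy.1 hy.2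
  unfold ρ
  rw [← (Proj 𝒜).presheaf.germ_res_apply (homOfLE (inf_le_left : W ≤ _)) x ⟨hv, hv'⟩,
    ← (Proj 𝒜).presheaf.germ_res_apply (homOfLE (inf_le_right : W ≤ _)) x ⟨hv, hv'⟩,
    ← (Proj 𝒜).presheaf.germ_res_apply (homOfLE hle) x ⟨hv, hv'⟩, ← map_mul]
  refine congrArg _ (Subtype.ext (funext fun y => HomogeneousLocalization.val_injective _ ?_))
  refine (val_mul _ _).trans ?_
  exact (congrArg₂ (· * ·) (val_mk _) (val_mk _)).trans ((Localization.mk_mul _ _ _ _).trans (Eq.symm (val_mk (⟨k + l, ⟨u.1 * u'.1, SetLike.mul_mem_graded u.2 u'.2⟩, ⟨v.1 * v'.1, SetLike.mul_mem_graded v.2 v'.2⟩, mem_mul y.2.1 y.2.2⟩ : NumDenSameDeg 𝒜 y.1.asHomogeneousIdeal.toIdeal.primeCompl))))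

theorem ρ_add {k : ℕ} {u u' v : 𝒜 k} {hv : x ∈ Proj.basicOpen 𝒜 v.1} :
    ρ (u + u') v hv = ρ u v hv + ρ u' v hv := by
  unfold ρ
  refine (congrArg _ ?_).trans (map_add _ _ _)
  refine Subtype.ext (funext fun y => HomogeneousLocalization.val_injective _ ?_)
  refine (val_mk _).trans (Eq.trans ?_ (val_add _ _).symm)
  refine Eq.trans ?_ (congrArg₂ (· + ·) (val_mk _) (val_mk _)).symm
  exact (Localization.add_mk_self _ _ _).symm

theorem ρ_zero {k : ℕ} {u v : 𝒜 k} {hv : x ∈ Proj.basicOpen 𝒜 v.1} (hu : u.1 = 0) : ρ u v hv = 0 := by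
  unfold ρ
  refine (congrArg _ ?_).trans (map_zero _)
  refine Subtype.ext (funext fun y => HomogeneousLocalization.val_injective _ ?_)
  refine (val_mk _).trans (Eq.trans ?_ val_zero.symm)
  show Localization.mk u.1 _ = 0
  rw [hu, Localization.mk_zero]

/-- A vanishing fraction is killed by a homogeneous element. -/
theorem exists_ann_of_G_eq_zero {i j : ℕ} {a : 𝒜 i} {s : 𝒜 j} {h : (i : ℤ) = j + n}
    {hs : x ∈ Proj.basicOpen 𝒜 s.1} (e : G n a s h hs = 0) :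
    ∃ (k : ℕ) (t : 𝒜 k), x ∈ Proj.basicOpen 𝒜 t.1 ∧ t.1 * a.1 = 0 := by
  obtain ⟨W, hxW, iW, iW', hW⟩ := TopCat.Presheaf.germ_eq (Twist.twist 𝒜 n).presheaf x hs hs _ _
    (e.trans (map_zero ((Twist.twist 𝒜 n).presheaf.germ (Proj.basicOpen 𝒜 s.1) x hs).hom).symm)
  have h1 : Localization.mk a.1 (⟨s.1, hs⟩ : x.asHomogeneousIdeal.toIdeal.primeCompl) = 0 := by
    refine (congrArg (fun f => valAt f (⟨x, hxW⟩ : W)) hW).trans ?_
    rw [map_zero]; rfl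
  obtain ⟨⟨t, ht⟩, h2⟩ := Localization.r_iff_exists.1
    (Localization.mk_eq_mk_iff.1 (h1.trans (Localization.mk_zero (1 : x.asHomogeneousIdeal.toIdeal.primeCompl)).symm))
  have h3 : t * a.1 = 0 := by simpa using h2
  classical
  obtain ⟨k, hk⟩ : ∃ k, (DirectSum.decompose 𝒜 t k : A) ∉ x.asHomogeneousIdeal := by
    by_contra! H
    refine ht ?_
    show t ∈ x.asHomogeneousIdeal.toIdeal
    rw [← DirectSum.sum_support_decompose 𝒜 t]
    exact Ideal.sum_mem _ fun i _ => H i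
  refine ⟨k, DirectSum.decompose 𝒜 t k, hk, ?_⟩
  have := DirectSum.coe_decompose_mul_of_right_mem_of_le 𝒜 (a := t) a.2 (Nat.le_add_left i k)
  rw [h3, DirectSum.decompose_zero, Nat.add_sub_cancel] at this
  simpa using this.symm

theorem exists_G (z : (Twist.twist 𝒜 n).presheaf.stalk x) :
    z = 0 ∨ ∃ (i j : ℕ) (a : 𝒜 i) (s : 𝒜 j) (h : (i : ℤ) = j + n) (hs : x ∈ Proj.basicOpen 𝒜 s.1),
      z = G n a s h hs := by
  obtain ⟨U, hx, f, rfl⟩ := TopCat.Presheaf.exists_germ_eq (Twist.twist 𝒜 n).presheaf z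
  obtain ⟨V, hxV, iV, i, j, a, s, nin, c, w⟩ := (f : Twist.sectN (𝒜 := 𝒜) n (op U)).2 ⟨x, hx⟩
  rcases c with c | c
  · refine Or.inr ⟨i, j, a, s, c, nin ⟨x, hxV⟩, ?_⟩
    refine TopCat.Presheaf.germ_ext _ (V ⊓ Proj.basicOpen 𝒜 s.1) ⟨hxV, nin ⟨x, hxV⟩⟩
      (homOfLE (inf_le_left.trans iV.le)) (homOfLE inf_le_right) ?_
    exact sect_ext fun y => w ⟨y.1, y.2.1⟩
  · refine Or.inl ?_
    rw [← TopCat.Presheaf.germ_res_apply (Twist.twist 𝒜 n).presheaf iV x hxV f]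
    refine Eq.trans (congrArg _ (sect_ext (g := 0) fun y => ?_)) (map_zero _)
    refine (w y).trans ?_
    rw [c, Localization.mk_zero]
    rfl

theorem exists_ρ (c : (Proj 𝒜).presheaf.stalk x) :
    ∃ (k : ℕ) (u v : 𝒜 k) (hv : x ∈ Proj.basicOpen 𝒜 v.1), c = ρ u v hv := by
  obtain ⟨U, hx, f, rfl⟩ := TopCat.Presheaf.exists_germ_eq (Proj 𝒜).presheaf c
  obtain ⟨V, hxV, iV, k, u, v, nin, w⟩ := (f : Twist.O (𝒜 := 𝒜) (op U)).2 ⟨x, hx⟩
  refine ⟨k, u, v, nin ⟨x, hxV⟩, ?_⟩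
  refine TopCat.Presheaf.germ_ext _ (V ⊓ Proj.basicOpen 𝒜 v.1) ⟨hxV, nin ⟨x, hxV⟩⟩
    (homOfLE (inf_le_left.trans iV.le)) (homOfLE inf_le_right) ?_
  exact Subtype.ext (funext fun y => w ⟨y.1, y.2.1⟩)

variable {R₀ B : Type u} [CommRing R₀] [CommRing B] [Algebra R₀ B] {ℬ : ℕ → Submodule R₀ B} [GradedAlgebra ℬ]
  (φ : ℬ →+*ᵍ 𝒜) (hirr : HomogeneousIdeal.irrelevant 𝒜 ≤ (HomogeneousIdeal.irrelevant ℬ).map φ)

/-- The image of a homogeneous element. -/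
abbrev im {i : ℕ} (b : ℬ i) : 𝒜 i := ⟨φ b.1, φ.map_mem b.2⟩

theorem stalkMap_ρ {k : ℕ} (u v : ℬ k) (hv : Proj.map φ hirr x ∈ Proj.basicOpen ℬ v.1) :
    (Proj.map φ hirr).stalkMap x (ρ u v hv) = ρ (im φ u) (im φ v) hv := by
  unfold ρ
  rw [Scheme.Hom.germ_stalkMap_apply]
  refine TopCat.Presheaf.germ_ext _ (Proj.basicOpen 𝒜 (φ v.1)) hv (𝟙 _) (𝟙 _) ?_
  refine Subtype.ext (funext fun y => HomogeneousLocalization.val_injective _ ?_)
  refine Eq.trans ?_ (val_mk _).symm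
  refine (HomogeneousLocalization.val_localRingHom _).trans ?_
  refine (congrArg _ (val_mk _)).trans ?_
  exact TwistFunctLib.locMap_mk φ hirr y.1 u v _

theorem cmp_G {i j : ℕ} (a : ℬ i) (s : ℬ j) (h : (i : ℤ) = j + n)
    (hs : Proj.map φ hirr x ∈ Proj.basicOpen ℬ s.1) :
    stalkLin (TwistFunctLib.cmp φ hirr n) x (pullStalk (Proj.map φ hirr) _ x (G n a s h hs)) =
      G n (im φ a) (im φ s) h hs := by
  refine (ProjBundleLib.stalkLin_adjunct (Proj.map φ hirr) (TwistFunctLib.toPush φ hirr n) x hs _).trans ?_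
  refine congrArg _ (sect_ext fun y => ?_)
  exact TwistFunctLib.locMap_mk φ hirr y.1 a s _

end Groth.Agent.TwistBCLib
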